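import Cfsg.Agent.H616.TI.Defs
import Cfsg.Agent.H212.U3.Model

/-!
# S4821, row `PSU_3(q)` (helper990)
-/

set_option autoImplicit false

namespace Cfsg.Agent.H990.TIPsu

open Matrix Subgroup Cfsg
open Cfsg.Agent.UThreeGen.MatGroup
open Cfsg.Agent.HKS.EndU (tor tmat tor_val tor_mem act tor_emb card_anti comm_of_a sne)
open Cfsg.Agent.H212.U3.Model
open Cfsg.Agent.H616.TI

variable {F : Type} [Field F] [Fintype F] {q : ℕ} {σ : F →+* F} [hσ : Fact (∀ x, σ (σ x) = x)]

/-- the order of the centre of `SU_3(q)` -/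
theorem card_center (hF : Fintype.card F = q ^ 2) (hs : ∀ x, σ x = x ^ q) {p n : ℕ} (hp : p.Prime) (hn : 1 ≤ n)
    (hq : q = p ^ n) : ¬ p ∣ Nat.card (center (SUG σ)) := by
  have hx : ∃ x : HG σ, x.a ≠ 0 := by
    obtain ⟨x, hx⟩ := exists_a (σ := σ) hF hs 1
    exact ⟨x, by rw [hx]; exact one_ne_zero⟩
  -- the centre embeds in the group of `l` with `l σ l = 1`
  intro hd
  have : Fact p.Prime := ⟨hp⟩
  have hfin : Finite (SUG σ) := inferInstance
  obtain ⟨z, hz⟩ := exists_prime_orderOf_dvd_card' p hd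
  have hzb : (z : SUG σ) ∈ borel σ := center_le_borel hx z.2
  obtain ⟨u, hu⟩ := exists_decomp hzb
  set l := chi σ ⟨z, hzb⟩ with hl
  have h1 : l ^ p = 1 := by
    rw [hl, ← map_pow]
    have : (⟨z, hzb⟩ : borel σ) ^ p = 1 := by
      apply Subtype.ext
      show (z : SUG σ) ^ p = 1
      rw [← hz]
      exact congrArg Subtype.val (pow_orderOf_eq_one z)
    rw [this, map_one]
  have h2 : Nat.card Fˣ = q ^ 2 - 1 := card_units hF
  have h3 : l ^ (q ^ 2 - 1) = 1 := by rw [← h2]; exact pow_card_eq_one'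
  have hq2 : 2 ≤ q := Cfsg.Agent.LieClassical.HermBasic.two_le hF
  have h4 : l = 1 := by
    have hco : Nat.Coprime p (q ^ 2 - 1) := by
      rw [hp.coprime_iff_not_dvd]
      intro h5
      have h6 : p ∣ q ^ 2 := by rw [hq, ← pow_mul]; exact dvd_pow_self p (by omega)
      have h7 : p ∣ q ^ 2 - (q ^ 2 - 1) := Nat.dvd_sub h6 h5
      have h8 : q ^ 2 - (q ^ 2 - 1) = 1 := by
        have : 1 ≤ q ^ 2 := Nat.one_le_pow _ _ (by omega)
        omega
      rw [h8] at h7
      exact hp.one_lt.ne' (Nat.dvd_one.1 h7)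
    have h5 := orderOf_dvd_of_pow_eq_one h1
    have h6 := orderOf_dvd_of_pow_eq_one h3
    exact orderOf_eq_one_iff.1 (Nat.eq_one_of_dvd_coprimes hco h5 h6)
  rw [h4, map_one, mul_one] at hu
  have h5 : u = 1 := eq_one_of_mem_center (hu ▸ z.2)
  rw [h5, map_one] at hu
  have h6 : z = 1 := Subtype.ext hu
  rw [h6, orderOf_one] at hz
  exact hp.one_lt.ne hz


omit [Fintype F] in
/-- the centre of `HG` -/
theorem mem_center_HG (ha : ∀ a : F, ∃ x : HG σ, x.a = a) (hne : ∃ c : F, σ c ≠ c) {x : HG σ} :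
    x ∈ center (HG σ) ↔ x.a = 0 := by
  constructor
  · intro hx
    by_contra h0
    obtain ⟨c, hc⟩ := hne
    have key : ∀ a : F, x.a * σ a = a * σ x.a := by
      intro a
      obtain ⟨y, hy⟩ := ha a
      have h1 := congrArg HG.b ((mem_center_iff.1 hx) y)
      rw [mul_b, mul_b, hy] at h1
      linear_combination -h1
    have h1 := key 1
    rw [map_one, mul_one, one_mul] at h1
    have h2 := key c
    rw [← h1, mul_comm c] at h2
    exact hc (mul_left_cancel₀ h0 h2)
  · intro hx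
    rw [mem_center_iff]
    intro y
    exact (comm_of_a hx y).symm

/-- the commutator formula -/
theorem comm_b (x y : HG σ) : (x * y * x⁻¹ * y⁻¹).b = x.a * σ y.a - y.a * σ x.a := by
  have h1 := x.h
  have h2 := y.h
  simp only [mul_b, mul_a, inv_a, inv_b, map_neg]
  linear_combination h1 + h2

section Main

variable {L : Type} [Group L] {π : SUG σ →* L}

omit [Fintype F] in
theorem inj_j (hker : ∀ g, π g = 1 ↔ g ∈ center (SUG σ)) : Function.Injective (π.comp (emb σ)) := by
  rw [injective_iff_map_eq_one]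
  intro x hx
  exact eq_one_of_mem_center ((hker _).1 hx)

/-- the unipotent subgroup -/
def R0 (π : SUG σ →* L) : Subgroup L := (π.comp (emb σ)).range

/-- the torus -/
def A0 (π : SUG σ →* L) : Subgroup L := (π.comp (tor σ)).range

theorem mem_R0 {r : L} : r ∈ R0 π ↔ ∃ x : HG σ, π (emb σ x) = r := Iff.rfl

theorem mem_A0 {r : L} : r ∈ A0 π ↔ ∃ l : Fˣ, π (tor σ l) = r := Iff.rfl

theorem conj_tor (l : Fˣ) (x : HG σ) : π (tor σ l) * π (emb σ x) * (π (tor σ l))⁻¹ = π (emb σ (act l x)) := by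
  rw [← map_mul, tor_emb, map_mul, mul_inv_cancel_right]

theorem A0_le : A0 π ≤ normalizer (R0 π : Set L) := by
  have key : ∀ a ∈ A0 π, ∀ r ∈ R0 π, a * r * a⁻¹ ∈ R0 π := by
    rintro _ ⟨l, rfl⟩ _ ⟨x, rfl⟩
    exact ⟨act l x, (conj_tor l x).symm⟩
  intro a ha
  rw [mem_normalizer_iff]
  intro r
  refine ⟨fun hr => key a ha r hr, fun hr => ?_⟩
  have h1 := key a⁻¹ (inv_mem ha) _ hr
  have e : a⁻¹ * (a * r * a⁻¹) * a⁻¹⁻¹ = r := by group
  rwa [e] at h1

variable {p n : ℕ} [hp : Fact p.Prime]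

/-- the facts about the Sylow subgroup -/
theorem facts [Finite L] (hπ : Function.Surjective π) (hker : ∀ g, π g = 1 ↔ g ∈ center (SUG σ)) (hF : Fintype.card F = q ^ 2)
    (hs : ∀ x, σ x = x ^ q) (hn : 1 ≤ n) (hq : q = p ^ n) :
    Nat.card (R0 π) = q ^ 3 ∧ ¬ p ∣ (R0 π).index ∧ ¬ p ∣ Nat.card (A0 π) ∧ R0 π ⊔ A0 π = normalizer (R0 π : Set L) := by
  have hq2 : 2 ≤ q := Cfsg.Agent.LieClassical.HermBasic.two_le hF
  have hpq : p ∣ q := by rw [hq]; exact dvd_pow_self p (by omega)
  have h1q : 1 ≤ q ^ 2 := Nat.one_le_pow _ _ (by omega)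
  have hpu : ¬ p ∣ q ^ 2 - 1 := by
    intro h5
    have h6 : p ∣ q ^ 2 := hpq.trans (dvd_pow_self q two_ne_zero)
    have h7 : p ∣ q ^ 2 - (q ^ 2 - 1) := Nat.dvd_sub h6 h5
    rw [show q ^ 2 - (q ^ 2 - 1) = 1 by omega] at h7
    exact hp.out.one_lt.ne' (Nat.dvd_one.1 h7)
  have hpv : ¬ p ∣ q ^ 3 + 1 := by
    intro h5
    have h6 : p ∣ q ^ 3 := hpq.trans (dvd_pow_self q three_ne_zero)
    exact hp.out.one_lt.ne' (Nat.dvd_one.1 ((Nat.dvd_add_right h6).1 h5))
  have hcR : Nat.card (R0 π) = q ^ 3 := by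
    rw [← card_HG hF hs]
    exact (Nat.card_congr (MonoidHom.ofInjective (inj_j hker)).toEquiv).symm
  have hcent := card_center (σ := σ) hF hs hp.out hn hq
  have hker' : π.ker = center (SUG σ) := by
    ext g
    exact hker g
  have hcL : Nat.card (center (SUG σ)) * Nat.card L = (q ^ 3 + 1) * (q ^ 3 * (q ^ 2 - 1)) := by
    rw [← card_SUG (σ := σ) hF hs, ← π.ker.card_mul_index, hker', ← hker', Subgroup.index_ker,
      MonoidHom.range_eq_top.2 hπ, Subgroup.card_top]
  refine ⟨hcR, ?_, ?_, ?_⟩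
  · intro hd
    have h1 := (R0 π).card_mul_index
    rw [hcR] at h1
    rw [← h1] at hcL
    have h2 : Nat.card (center (SUG σ)) * (R0 π).index = (q ^ 3 + 1) * (q ^ 2 - 1) := by
      have h3 : q ^ 3 * (Nat.card (center (SUG σ)) * (R0 π).index) = q ^ 3 * ((q ^ 3 + 1) * (q ^ 2 - 1)) := by
        linarith
      exact Nat.eq_of_mul_eq_mul_left (by positivity) h3
    have h3 : p ∣ (q ^ 3 + 1) * (q ^ 2 - 1) := by rw [← h2]; exact hd.mul_left _
    rcases (hp.out.dvd_mul).1 h3 with h | h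
    · exact hpv h
    · exact hpu h
  · intro hd
    apply hpu
    rw [← card_units hF]
    refine hd.trans ?_
    have := Subgroup.card_range_dvd (π.comp (tor σ))
    exact this
  · apply le_antisymm (sup_le le_normalizer A0_le)
    intro g hg
    obtain ⟨g', rfl⟩ := hπ g
    have hexp : ∀ x : HG σ, (x : HG σ) ^ q ^ 3 = 1 := fun x => by
      rw [← card_HG (σ := σ) hF hs]; exact pow_card_eq_one'
    have hb : g' ∈ borel σ := by
      refine col_of_mem_normalizer ?_ ?_
      · obtain ⟨x, hx⟩ := exists_a (σ := σ) hF hs 1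
        exact ⟨x, by rw [hx]; exact one_ne_zero⟩
      · rintro _ ⟨x, rfl⟩
        have h1 : (π g')⁻¹ * π (emb σ x) * (π g')⁻¹⁻¹ ∈ R0 π :=
          (mem_normalizer_iff.1 (inv_mem hg) _).1 ⟨x, rfl⟩
        obtain ⟨y, hy⟩ := h1
        have hy' : π (emb σ y) = (π g')⁻¹ * π (emb σ x) * (π g')⁻¹⁻¹ := hy
        set z := (emb σ y)⁻¹ * (g'⁻¹ * emb σ x * g') with hz
        have hzc : z ∈ center (SUG σ) := by
          rw [← hker, hz, map_mul, map_inv, hy', map_mul, map_mul, map_inv, inv_inv]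
          group
        have h2 : g'⁻¹ * emb σ x * g' = emb σ y * z := by rw [hz]; group
        have h3 : z ^ q ^ 3 = 1 := by
          have h4 : (g'⁻¹ * emb σ x * g') ^ q ^ 3 = 1 := by
            have e : g'⁻¹ * emb σ x * g' = g'⁻¹ * emb σ x * g'⁻¹⁻¹ := by rw [inv_inv]
            rw [e, conj_pow, ← map_pow, hexp, map_one]; group
          have hcomm : Commute (emb σ y) z := (mem_center_iff.1 hzc) (emb σ y)
          rw [h2, hcomm.mul_pow, ← map_pow, hexp, map_one, one_mul] at h4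
          exact h4
        have h4 : z = 1 := by
          have h5 : (⟨z, hzc⟩ : center (SUG σ)) ^ q ^ 3 = 1 := Subtype.ext h3
          have h6 : (⟨z, hzc⟩ : center (SUG σ)) ^ Nat.card (center (SUG σ)) = 1 := pow_card_eq_one'
          have hco : Nat.Coprime (q ^ 3) (Nat.card (center (SUG σ))) := by
            rw [hq, ← pow_mul]
            exact Nat.Coprime.pow_left _ ((Nat.Prime.coprime_iff_not_dvd hp.out).2 hcent)
          have h7 := orderOf_eq_one_iff.1 (Nat.eq_one_of_dvd_coprimes hco (orderOf_dvd_of_pow_eq_one h5)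
            (orderOf_dvd_of_pow_eq_one h6))
          exact congrArg Subtype.val h7
        rw [h2, h4, mul_one]
        exact ⟨y, rfl⟩
    obtain ⟨u, hu⟩ := exists_decomp hb
    rw [hu, map_mul]
    exact mul_mem (mem_sup_left ⟨u, rfl⟩) (mem_sup_right ⟨_, rfl⟩)


/-- coordinates on `R0` -/
noncomputable def eR (hker : ∀ g, π g = 1 ↔ g ∈ center (SUG σ)) : HG σ ≃* R0 π := MonoidHom.ofInjective (inj_j hker)

omit [Fintype F] in
theorem eR_coe (hker : ∀ g, π g = 1 ↔ g ∈ center (SUG σ)) (x : HG σ) : ((eR hker x : R0 π) : L) = π (emb σ x) := rfl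

/-- the action of the torus in coordinates -/
theorem act_eR (hker : ∀ g, π g = 1 ↔ g ∈ center (SUG σ)) {l : Fˣ} (hl : π (tor σ l) ∈ normalizer (R0 π : Set L))
    (r : R0 π) : (R0 π).normalizerMonoidHom ⟨π (tor σ l), hl⟩ r = eR hker (act l ((eR hker).symm r)) := by
  apply Subtype.ext
  rw [eR_coe, ← conj_tor]
  obtain ⟨x, rfl⟩ := (eR hker).surjective r
  rw [MulEquiv.symm_apply_apply, ← eR_coe hker]
  rfl

omit hσ in
theorem cube_card (p : ℕ) : Nat.card {l : Fˣ // l ^ 3 = 1} ≤ 3 := by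
  classical
  have h := IsCyclic.card_pow_eq_one_le (α := Fˣ) (n := 3) (by norm_num)
  rw [Nat.card_eq_fintype_card, Fintype.card_subtype]
  exact h

/-- the order of the group of automorphisms induced by the torus -/
theorem card_autOf (hker : ∀ g, π g = 1 ↔ g ∈ center (SUG σ)) (hF : Fintype.card F = q ^ 2)
    (hs : ∀ x, σ x = x ^ q) : q ^ 2 - 1 ≤ 3 * Nat.card (autOf (R0 π) (A0 π)) := by
  classical
  let φ : Fˣ →* MulAut (R0 π) := (R0 π).normalizerMonoidHom.comp
    ((π.comp (tor σ)).codRestrict (normalizer (R0 π : Set L)) fun l => A0_le ⟨l, rfl⟩)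
  have hφ : φ.range ≤ autOf (R0 π) (A0 π) := by
    rintro _ ⟨l, rfl⟩
    exact ⟨⟨π (tor σ l), A0_le ⟨l, rfl⟩⟩, ⟨l, rfl⟩, rfl⟩
  have hfin : Finite (autOf (R0 π) (A0 π)) := by
    have : Finite (R0 π) := Finite.of_surjective (fun g : SUG σ => if hg : π g ∈ R0 π then (⟨π g, hg⟩ : R0 π) else 1)
      (by
        rintro ⟨_, x, rfl⟩
        exact ⟨emb σ x, dif_pos (⟨x, rfl⟩ : π (emb σ x) ∈ R0 π)⟩)
    infer_instance
  have h1 : Nat.card φ.range ≤ Nat.card (autOf (R0 π) (A0 π)) := Nat.card_le_card_of_injective _ (inclusion_injective hφ)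
  have h2 : Nat.card φ.ker ≤ 3 := by
    refine le_trans ?_ (cube_card (F := F) 3)
    refine Nat.card_le_card_of_injective (fun l : φ.ker => (⟨l.1, ?_⟩ : {l : Fˣ // l ^ 3 = 1})) ?_
    · obtain ⟨x, hx⟩ := exists_a (σ := σ) hF hs 1
      have h3 : φ l.1 = 1 := l.2
      have h4 := congrArg (fun f : MulAut (R0 π) => f (eR hker x)) h3
      have h5 : eR hker (act l.1 x) = eR hker x := by
        have h6 := act_eR hker (A0_le ⟨l.1, rfl⟩ : π (tor σ l.1) ∈ normalizer (R0 π : Set L)) (eR hker x)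
        rw [MulEquiv.symm_apply_apply] at h6
        exact h6.symm.trans h4
      have h6 := congrArg HG.a ((eR hker).injective h5)
      have h7 : ((l.1 : Fˣ) : F) ^ 2 / σ (l.1 : F) * x.a = x.a := h6
      rw [hx, mul_one] at h7
      have h8 : ((l.1 : Fˣ) : F) ^ 2 = σ (l.1 : F) := by
        have h9 := sne (σ := σ) l.1
        field_simp at h7
        exact h7
      have h9 : σ (((l.1 : Fˣ) : F) ^ 2) = (l.1 : F) := by rw [h8, sig]
      rw [map_pow, ← h8] at h9
      apply Units.ext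
      rw [Units.val_pow_eq_pow_val, Units.val_one]
      have h10 : ((l.1 : Fˣ) : F) ≠ 0 := l.1.ne_zero
      have h11 : ((l.1 : Fˣ) : F) * (((l.1 : Fˣ) : F) ^ 3) = ((l.1 : Fˣ) : F) * 1 := by
        rw [mul_one]
        calc ((l.1 : Fˣ) : F) * (((l.1 : Fˣ) : F) ^ 3) = (((l.1 : Fˣ) : F) ^ 2) ^ 2 := by ring
          _ = _ := h9
      exact mul_left_cancel₀ h10 h11
    · intro a b hab
      exact Subtype.ext (congrArg (fun z : {l : Fˣ // l ^ 3 = 1} => z.1) hab)
  have h3 : Nat.card φ.ker * Nat.card φ.range = q ^ 2 - 1 := by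
    rw [← card_units hF, ← φ.ker.card_mul_index, Subgroup.index_ker]
  rw [← h3]
  exact Nat.mul_le_mul h2 h1

/-- **Good.** -/
theorem good (hU : GoalU3.{0}) (hPP : GoalPP.{0}) [Finite L] (hπ : Function.Surjective π)
    (hker : ∀ g, π g = 1 ↔ g ∈ center (SUG σ)) (hF : Fintype.card F = q ^ 2)
    (hs : ∀ x, σ x = x ^ q) (hn : 1 ≤ n) (hq : q = p ^ n) [CharP F p] : Good p (R0 π) (autOf (R0 π) (A0 π)) := by
  have hq2 : 2 ≤ q := Cfsg.Agent.LieClassical.HermBasic.two_le hF
  have hcR := (facts (p := p) hπ hker hF hs hn hq).1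
  have hR : IsPGroup p (R0 π) := IsPGroup.of_card (n := n * 3) (by rw [hcR, hq, ← pow_mul])
  have ha : ∀ a : F, ∃ x : HG σ, x.a = a := exists_a hF hs
  have hne : ∃ c : F, σ c ≠ c := by
    by_contra hcon
    push Not at hcon
    have h1 : ∀ x : F, x ^ q = x := fun x => (hs x).symm.trans (hcon x)
    have h2 := Cfsg.Agent.LieClassical.HermBasic.two_le hF
    classical
    have h3 : (Finset.univ : Finset F) ⊆ (Polynomial.X ^ q - Polynomial.X : Polynomial F).roots.toFinset := by
      intro x _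
      rw [Multiset.mem_toFinset, Polynomial.mem_roots (FiniteField.X_pow_card_sub_X_ne_zero F (by omega)),
        Polynomial.IsRoot.def, Polynomial.eval_sub, Polynomial.eval_pow, Polynomial.eval_X, h1 x, sub_self]
    have h4 := Finset.card_le_card h3
    rw [Finset.card_univ, hF] at h4
    have h5 := (Multiset.toFinset_card_le (Polynomial.X ^ q - Polynomial.X : Polynomial F).roots).trans
      (Polynomial.card_roots' _)
    rw [FiniteField.X_pow_card_sub_X_natDegree_eq F (by omega)] at h5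
    nlinarith
  have hcen : ∀ r : R0 π, ((eR hker).symm r).a = 0 ↔ r ∈ center (R0 π) := by
    intro r
    rw [← mem_center_HG (σ := σ) ha hne]
    obtain ⟨x, rfl⟩ := (eR hker).surjective r
    rw [MulEquiv.symm_apply_apply]
    constructor
    · intro hx
      rw [mem_center_iff]
      intro y
      obtain ⟨y, rfl⟩ := (eR hker).surjective y
      rw [← map_mul, ← map_mul, (mem_center_iff.1 hx) y]
    · intro hx
      rw [mem_center_iff]
      intro y
      have h1 := (mem_center_iff.1 hx) (eR hker y)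
      rw [← map_mul, ← map_mul] at h1
      exact (eR hker).injective h1
  rcases Nat.lt_or_ge 2 q with h2q | h2q
  · refine hU p q h2q F hF inferInstance (R0 π) hR (fun r => ((eR hker).symm r).a) (fun r => ((eR hker).symm r).b)
      ?_ ?_ hcen ?_ ?_ ?_ ?_ ?_ _ ?_ (card_autOf hker hF hs)
    · intro x y
      rw [map_mul, mul_a]
    · intro a
      obtain ⟨x, hx⟩ := ha a
      exact ⟨eR hker x, by show ((eR hker).symm (eR hker x)).a = a; rw [MulEquiv.symm_apply_apply, hx]⟩
    · rw [← card_anti (σ := σ) hF hs]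
      refine Nat.card_congr
        { toFun := fun r => ⟨((eR hker).symm r.1).b, ?_⟩
          invFun := fun b => ⟨eR hker ⟨0, b.1, by rw [b.2, zero_mul]⟩, ?_⟩
          left_inv := ?_
          right_inv := ?_ }
      · have h1 := ((eR hker).symm r.1).h
        rw [(hcen r.1).2 r.2, zero_mul] at h1
        exact h1
      · rw [← hcen, MulEquiv.symm_apply_apply]
      · intro r
        apply Subtype.ext
        apply (eR hker).symm.injective
        rw [MulEquiv.symm_apply_apply]
        ext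
        · exact ((hcen r.1).2 r.2).symm
        · rfl
      · intro b
        apply Subtype.ext
        show ((eR hker).symm (eR hker _)).b = b.1
        rw [MulEquiv.symm_apply_apply]
    · intro x hx y hy
      show ((eR hker).symm (x * y)).b = _
      rw [map_mul, mul_b, (hcen x).2 hx, zero_mul, add_zero]
    · intro x hx h0
      have h1 := (hcen x).2 hx
      have h2 : (eR hker).symm x = 1 := by
        ext
        · exact h1
        · exact h0
      exact (eR hker).symm.injective (h2.trans (map_one _).symm)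
    · intro x hx
      have h1 := ((eR hker).symm x).h
      rw [(hcen x).2 hx, zero_mul, hs] at h1
      linear_combination h1
    · intro x y
      show ((eR hker).symm (x * y * x⁻¹ * y⁻¹)).b = _
      rw [map_mul, map_mul, map_mul, map_inv, map_inv, comm_b, hs, hs]
      ring
    · rintro _ ⟨⟨g, hg⟩, hgA, rfl⟩
      obtain ⟨l, hl⟩ := (mem_subgroupOf.1 hgA : g ∈ A0 π)
      have hl' : π (tor σ l) = g := hl
      subst hl'
      refine ⟨(l : F) ^ 2 / σ (l : F), fun x => ?_⟩
      have h1 := act_eR hker hg x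
      show ((eR hker).symm ((R0 π).normalizerMonoidHom ⟨π (tor σ l), hg⟩ x)).a = _
      rw [h1, MulEquiv.symm_apply_apply]
      rfl
  · have hq' : q = 2 := by omega
    have hp2 : p = 2 ∧ n = 1 := by
      rw [hq'] at hq
      have h1 : p ∣ 2 := hq ▸ dvd_pow_self p (by omega)
      have h2 : p = 2 := (Nat.prime_dvd_prime_iff_eq hp.out Nat.prime_two).1 h1
      refine ⟨h2, ?_⟩
      rw [h2] at hq
      exact (Nat.pow_right_injective le_rfl (by simpa using hq)).symm
    refine hPP p (R0 π) _ hR (Or.inr (Or.inr ⟨?_, ?_⟩))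
    · rw [hcR, hq', hp2.1]
    · intro hcomm
      obtain ⟨x, hx⟩ := ha 1
      have h1 : eR hker x ∈ center (R0 π) := by
        rw [mem_center_iff]
        intro y
        exact hcomm.1.1 y (eR hker x)
      rw [← hcen, MulEquiv.symm_apply_apply, hx] at h1
      exact one_ne_zero h1

end Main

/-- **The row `PSU_3(q)`.** -/
theorem result (hU : GoalU3.{0}) (hPP : GoalPP.{0}) : GoalPSU := by
  intro F _ _ p hp n hn hF
  set q := p ^ n with hq
  let σ : F →+* F := (LieClassical.HermBasic.conj hF : F →+* F)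
  have hs : ∀ x, σ x = x ^ q := fun x => rfl
  have : Fact (∀ x, σ (σ x) = x) := ⟨fun x => LieClassical.HermBasic.pow_q_pow_q hF x⟩
  obtain ⟨π, hπ, hker⟩ := exists_pi (σ := σ) (LieClassical.HermBasic.two_le hF) hs
    (by rw [Nat.card_eq_fintype_card, hF])
  have hch : CharP F p := by
    obtain ⟨m, hp', hm⟩ := FiniteField.card F (ringChar F)
    have h1 : ringChar F ∣ p := by
      have h2 : ringChar F ∣ (p ^ n) ^ 2 := by
        rw [← hF, hm]
        exact dvd_pow_self _ m.ne_zero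
      exact hp'.dvd_of_dvd_pow (hp'.dvd_of_dvd_pow h2)
    have h2 := (Nat.prime_dvd_prime_iff_eq hp' hp.out).1 h1
    exact h2 ▸ ringChar.charP F
  have hfin : Finite (PSU 3 F q) := inferInstance
  obtain ⟨h1, h2, h3, h4⟩ := facts (p := p) hπ hker hF hs hn hq
  have hR : IsPGroup p (R0 π) := IsPGroup.of_card (n := n * 3) (by rw [h1, hq, ← pow_mul])
  refine ⟨hR.toSylow h2, A0 π, A0_le, h3, h4, ?_⟩
  exact good hU hPP hπ hker hF hs hn hq

end Cfsg.Agent.H990.TIPsu
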